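import Mathlib.RingTheory.AdjoinRoot
import Mathlib.RingTheory.Finiteness.Basic
import Mathlib.Algebra.Polynomial.Lifts
import Mathlib.Algebra.Polynomial.Splits
import Mathlib.RingTheory.IntegralClosure.IsIntegralClosure.Basic

/-!
# Finite extensions splitting a monic polynomial
-/

set_option autoImplicit false

universe u

open Polynomial

namespace Groth.Agent.H26.FinCover.Alg

theorem exists_split (n : ℕ) : ∀ (R : Type u) [CommRing R] (P : R[X]), P.Monic → P.natDegree = n →
    ∃ (R' : Type u) (_ : CommRing R') (φ : R →+* R'), φ.Finite ∧ Function.Injective φ ∧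
      ∃ s : Multiset R', P.map φ = (s.map fun r => X - C r).prod := by
  induction n with
  | zero =>
    intro R _ P hP hd
    exact ⟨R, inferInstance, RingHom.id R, RingHom.Finite.id R, fun a b h => h, 0, by
      simp [eq_one_of_monic_natDegree_zero hP hd]⟩
  | succ n ih =>
    intro R _ P hP hd
    cases subsingleton_or_nontrivial R with
    | inl h =>
      exfalso
      rw [Subsingleton.elim P 1, natDegree_one] at hd
      omega
    | inr h => ?_
    have hfree : Module.Free R (AdjoinRoot P) := Module.Free.of_basis (AdjoinRoot.powerBasis' hP).basis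
    have hfin : Module.Finite R (AdjoinRoot P) := Module.Finite.of_basis (AdjoinRoot.powerBasis' hP).basis
    haveI : Nontrivial (AdjoinRoot P) :=
      ⟨⟨0, (AdjoinRoot.powerBasis' hP).basis ⟨0, by rw [AdjoinRoot.powerBasis'_dim]; omega⟩,
        ((AdjoinRoot.powerBasis' hP).basis.ne_zero _).symm⟩⟩
    have hinj : Function.Injective (AdjoinRoot.of P) := by
      rw [← AdjoinRoot.algebraMap_eq]
      exact FaithfulSMul.algebraMap_injective R (AdjoinRoot P)
    set ρ := AdjoinRoot.root P
    set Q := P.map (AdjoinRoot.of P) /ₘ (X - C ρ) with hQ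
    have hroot : (P.map (AdjoinRoot.of P)).IsRoot ρ := by
      rw [IsRoot.def, eval_map]
      exact AdjoinRoot.eval₂_root P
    have hmul : (X - C ρ) * Q = P.map (AdjoinRoot.of P) :=
      mul_divByMonic_eq_iff_isRoot.2 hroot
    have hQm : Q.Monic := (monic_X_sub_C ρ).of_mul_monic_left (hmul ▸ hP.map _)
    have hQd : Q.natDegree = n := by
      have h := congrArg natDegree hmul
      rw [(monic_X_sub_C ρ).natDegree_mul hQm, natDegree_X_sub_C, hP.natDegree_map, hd] at h
      omega
    obtain ⟨R', hR', φ, hf, hi, s, hs⟩ := ih (AdjoinRoot P) Q hQm hQd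
    refine ⟨R', hR', φ.comp (AdjoinRoot.of P), hf.comp ?_, hi.comp hinj, φ ρ ::ₘ s, ?_⟩
    · rw [← AdjoinRoot.algebraMap_eq]
      exact RingHom.finite_algebraMap.2 hfin
    · rw [← Polynomial.map_map, ← hmul, Polynomial.map_mul, hs, Multiset.map_cons, Multiset.prod_cons]
      simp

/-- A finite injective extension `R'` of `R` over which every lift of the `R ⧸ I`-algebra `S'` to a field
takes values in the image of `R'`. -/
theorem exists_roots {R S S' : Type u} [CommRing R] [CommRing S] [CommRing S'] (a : R →+* S)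
    (ha : Function.Surjective a) (b : S →+* S') (hb : b.Finite) :
    ∃ (R' : Type u) (_ : CommRing R') (φ : R →+* R'), φ.Finite ∧ Function.Injective φ ∧
      ∀ (O : Type u) [CommRing O] (L : Type u) [Field L] (η : O →+* L) (_ : Function.Injective η)
        (χ : R' →+* O) (ψ : S' →+* L), ψ.comp (b.comp a) = η.comp (χ.comp φ) →
        ∀ x, ψ x ∈ η.range := by
  classical
  letI := b.toAlgebra
  haveI : Module.Finite S S' := hb
  obtain ⟨g, hg⟩ := Module.Finite.fg_top (R := S) (M := S')
  have hint : ∀ x : S', ∃ p : R[X], p.Monic ∧ p.eval₂ (b.comp a) x = 0 := fun x => by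
    obtain ⟨q, hq, hqx⟩ := IsIntegral.of_finite S x
    obtain ⟨p, hp, -, hpm⟩ := lifts_and_natDegree_eq_and_monic
      ((lifts_iff_coeff_lifts q).2 fun k => ha _) hq
    refine ⟨p, hpm, ?_⟩
    rw [← eval₂_map, hp]
    exact hqx
  choose p hpm hp0 using hint
  obtain ⟨R', hR', φ, hf, hi, s, hs⟩ := exists_split _ R (∏ x ∈ g, p x)
    (monic_prod_of_monic _ _ fun x _ => hpm x) rfl
  refine ⟨R', hR', φ, hf, hi, fun O _ L _ η _ χ ψ hψ => ?_⟩
  have hgen : ∀ x ∈ g, ψ x ∈ η.range := by
    intro x hx
    have h0 : (∏ y ∈ g, p y).eval₂ (η.comp (χ.comp φ)) (ψ x) = 0 := by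
      rw [eval₂_finsetProd]
      refine Finset.prod_eq_zero hx ?_
      rw [← hψ, ← hom_eval₂, hp0 x, map_zero]
    have h1 : (∏ y ∈ g, p y).map (η.comp (χ.comp φ)) = (s.map fun r => X - C (η (χ r))).prod := by
      rw [← RingHom.comp_assoc, ← Polynomial.map_map, hs, Polynomial.map_multiset_prod, Multiset.map_map]
      simp [Function.comp_def]
    rw [← eval_map, h1, eval_multiset_prod, Multiset.map_map, Multiset.prod_eq_zero_iff] at h0
    obtain ⟨r, -, hr⟩ := Multiset.mem_map.1 h0
    exact ⟨χ r, by simp [sub_eq_zero] at hr; exact hr.symm⟩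
  intro x
  have hx : x ∈ Submodule.span S (g : Set S') := hg ▸ Submodule.mem_top
  induction hx using Submodule.span_induction with
  | mem y hy => exact hgen y hy
  | zero => rw [map_zero]; exact zero_mem _
  | add y z _ _ hy hz => rw [map_add]; exact add_mem hy hz
  | smul c y _ hy =>
    obtain ⟨r, rfl⟩ := ha c
    rw [Algebra.smul_def, map_mul, show ψ (algebraMap S S' (a r)) = η (χ (φ r)) from DFunLike.congr_fun hψ r]
    exact mul_mem ⟨_, rfl⟩ hy

end Groth.Agent.H26.FinCover.Alg
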