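import Mathlib.AlgebraicGeometry.Morphisms.Finite
import Mathlib.AlgebraicGeometry.Morphisms.Separated
import Mathlib.AlgebraicGeometry.AlgClosed.Basic
import Mathlib.AlgebraicGeometry.Morphisms.SurjectiveOnStalks
import Groth.Agent.H26.FinCover.Alg

/-!
# Lifting along a finite morphism after a finite cover
-/

set_option autoImplicit false

universe u

open CategoryTheory CategoryTheory.Limits AlgebraicGeometry

namespace Groth.Agent.H26.FinCover.Local

/-- Evaluation at a dominant point is injective on the functions of a reduced scheme. -/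
theorem injective_appTop {X W : Scheme.{u}} [IsReduced X] (ω : W ⟶ X) [IsDominant ω] :
    Function.Injective ω.appTop.hom := by
  rw [injective_iff_map_eq_zero]
  intro f hf
  have h : ω ⁻¹ᵁ X.basicOpen f = ⊥ := by
    rw [Scheme.preimage_basicOpen_top, hf]
    exact Scheme.basicOpen_zero _ _
  have h2 : X.basicOpen f = ⊥ := by
    ext x
    simp only [TopologicalSpace.Opens.coe_bot, Set.mem_empty_iff_false, iff_false]
    intro hx
    obtain ⟨w, hw⟩ := ω.denseRange.exists_mem_open (X.basicOpen f).isOpen ⟨x, hx⟩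
    exact (h.le (show w ∈ ω ⁻¹ᵁ X.basicOpen f from hw) : w ∈ (⊥ : W.Opens))
  exact (basicOpen_eq_bot_iff f).1 h2

theorem isoSpec_inv_appTop (X : Scheme.{u}) [IsAffine X] :
    X.isoSpec.inv.appTop = (Scheme.ΓSpecIso Γ(X, ⊤)).inv := by
  have h : X.isoSpec.inv.appTop ≫ X.isoSpec.hom.appTop = 𝟙 _ := by
    rw [← Scheme.Hom.comp_appTop, X.isoSpec.hom_inv_id, Scheme.Hom.id_appTop]
  rw [← cancel_mono (Scheme.ΓSpecIso Γ(X, ⊤)).hom, Iso.inv_hom_id]
  rw [Scheme.isoSpec_hom, Scheme.toSpecΓ_appTop] at h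
  exact h

/-- The affine case. -/
theorem exists_lift {U V V' Y' : Scheme.{u}} [IsAffine U] [IsAffine V] [IsAffine V'] (a : V ⟶ U) (b : V' ⟶ V)
    (R' : Type u) [CommRing R'] (φ : Γ(U, ⊤) →+* R')
    (hroots : ∀ (O : Type u) [CommRing O] (L : Type u) [Field L] (η : O →+* L) (_ : Function.Injective η)
      (χ : R' →+* O) (ψ : Γ(V', ⊤) →+* L), ψ.comp (b.appTop.hom.comp a.appTop.hom) = η.comp (χ.comp φ) →
        ∀ x, ψ x ∈ η.range)
    (e : Y' ⟶ Spec (CommRingCat.of R')) (Ω : Type u) [Field Ω] (ω : Spec (CommRingCat.of Ω) ⟶ Y') [IsDominant ω]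
    [IsReduced Y'] (r : Y' ⟶ V) (hr : r ≫ a = e ≫ Spec.map (CommRingCat.ofHom φ) ≫ U.isoSpec.inv)
    (ψ : Spec (CommRingCat.of Ω) ⟶ V') (hψ : ψ ≫ b = ω ≫ r) :
    ∃ l : Y' ⟶ V', l ≫ b = r ∧ ω ≫ l = ψ := by
  let η : Γ(Y', ⊤) →+* Ω := (Scheme.ΓSpecIso (CommRingCat.of Ω)).hom.hom.comp ω.appTop.hom
  have hη : Function.Injective η :=
    (ConcreteCategory.bijective_of_isIso (Scheme.ΓSpecIso (CommRingCat.of Ω)).hom).1.comp (injective_appTop ω)
  let χ : R' →+* Γ(Y', ⊤) := ((Scheme.ΓSpecIso (CommRingCat.of R')).inv ≫ e.appTop).hom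
  let ψ' : Γ(V', ⊤) →+* Ω := (Scheme.ΓSpecIso (CommRingCat.of Ω)).hom.hom.comp ψ.appTop.hom
  have hU : (Spec.map (CommRingCat.ofHom φ) ≫ U.isoSpec.inv).appTop =
      CommRingCat.ofHom φ ≫ (Scheme.ΓSpecIso (CommRingCat.of R')).inv := by
    rw [Scheme.Hom.comp_appTop, isoSpec_inv_appTop]
    exact (Scheme.ΓSpecIso_inv_naturality (CommRingCat.ofHom φ)).symm
  have hcomm : ψ'.comp (b.appTop.hom.comp a.appTop.hom) = η.comp (χ.comp φ) := by
    have h : a.appTop ≫ b.appTop ≫ ψ.appTop =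
        CommRingCat.ofHom φ ≫ ((Scheme.ΓSpecIso (CommRingCat.of R')).inv ≫ e.appTop) ≫ ω.appTop := by
      rw [← Scheme.Hom.comp_appTop, ← Scheme.Hom.comp_appTop, hψ, Category.assoc ω, hr, Scheme.Hom.comp_appTop,
        Scheme.Hom.comp_appTop, hU]
      simp
    ext x
    exact congrArg (Scheme.ΓSpecIso (CommRingCat.of Ω)).hom.hom (congrArg (fun g => g.hom x) h)
  have hmem := hroots Γ(Y', ⊤) Ω η hη χ ψ' hcomm
  let θ : Γ(V', ⊤) →+* Γ(Y', ⊤) :=
    ((RingEquiv.ofBijective η.rangeRestrict ⟨fun x y h => hη (congrArg Subtype.val h),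
      η.rangeRestrict_surjective⟩).symm.toRingHom).comp (ψ'.codRestrict η.range hmem)
  have hθ : ∀ x, η (θ x) = ψ' x := fun x => by
    have h := (RingEquiv.ofBijective η.rangeRestrict ⟨fun x y h => hη (congrArg Subtype.val h),
      η.rangeRestrict_surjective⟩).apply_symm_apply (ψ'.codRestrict η.range hmem x)
    exact congrArg Subtype.val h
  have hωθ : ∀ x, ω.appTop.hom (θ x) = ψ.appTop.hom x := fun x =>
    (ConcreteCategory.bijective_of_isIso (Scheme.ΓSpecIso (CommRingCat.of Ω)).hom).1 (hθ x)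
  let l : Y' ⟶ V' := Y'.toSpecΓ ≫ Spec.map (CommRingCat.ofHom θ) ≫ V'.isoSpec.inv
  have hl : l.appTop = CommRingCat.ofHom θ := by
    rw [Scheme.Hom.comp_appTop, Scheme.Hom.comp_appTop, isoSpec_inv_appTop, Scheme.toSpecΓ_appTop,
      ← Scheme.ΓSpecIso_inv_naturality, Category.assoc, Iso.inv_hom_id, Category.comp_id]
  refine ⟨l, ext_of_isAffine ?_, ext_of_isAffine ?_⟩
  · rw [Scheme.Hom.comp_appTop, hl]
    ext x
    refine injective_appTop ω ?_
    exact (hωθ _).trans (congrArg (fun g => g.hom x) ((Scheme.Hom.comp_appTop ψ b).symm.trans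
      ((congrArg Scheme.Hom.appTop hψ).trans (Scheme.Hom.comp_appTop ω r))))
  · rw [Scheme.Hom.comp_appTop, hl]
    ext x
    exact hωθ x

end Groth.Agent.H26.FinCover.Local
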