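import Mathlib.AlgebraicGeometry.IdealSheaf.Functorial
import Mathlib.AlgebraicGeometry.ZariskisMainTheorem
import Mathlib.AlgebraicGeometry.Noetherian
import Groth.Agent.S0385
import Groth.Agent.H26.FinCover.Local

/-!
# A finite cover through which the components of a closed subscheme lift
-/

set_option autoImplicit false
set_option linter.style.haveILetI false

universe u

open CategoryTheory CategoryTheory.Limits AlgebraicGeometry

namespace Groth.Agent.H26.FinCover.Main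

theorem isDominant_lift {W V G : Scheme.{u}} (j : V ⟶ G) [IsOpenImmersion j] (ω : W ⟶ G) [IsDominant ω]
    (ω' : W ⟶ V) (h : ω' ≫ j = ω) : IsDominant ω' := by
  refine ⟨?_⟩
  have hr : Set.range ω' = j ⁻¹' Set.range ω := by
    ext v
    constructor
    · rintro ⟨w, rfl⟩
      exact ⟨w, by rw [← h, Scheme.Hom.comp_apply]⟩
    · rintro ⟨w, hw⟩
      rw [← h, Scheme.Hom.comp_apply] at hw
      exact ⟨w, j.isOpenEmbedding.injective hw⟩
  rw [DenseRange, hr]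
  exact Dense.preimage ω.denseRange j.isOpenEmbedding.isOpenMap

/-- A finite surjective morphism to an open extends to the whole scheme. -/
theorem extend {Y : Scheme.{u}} [IsNoetherian Y] (U : Y.Opens) {V : Scheme.{u}} (h : V ⟶ (U : Scheme.{u}))
    [IsFinite h] [Surjective h] :
    ∃ (Ya : Scheme.{u}) (g : Ya ⟶ Y), IsFinite g ∧ Surjective g ∧
      ∀ (W : Scheme.{u}) (t : W ⟶ Ya), Set.range (t ≫ g) ⊆ (U : Set Y) →
        ∃ w : W ⟶ V, w ≫ h ≫ U.ι = t ≫ g := by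
  obtain ⟨T, j, π, hj, -, hπ, hjπ⟩ := Groth.Agent.S0385.result (h ≫ U.ι)
  let j' : V ⟶ (π ⁻¹ᵁ U : T.Opens) := IsOpenImmersion.lift (π ⁻¹ᵁ U).ι j (by
    rw [Scheme.Opens.range_ι]
    rintro _ ⟨v, rfl⟩
    show π (j v) ∈ U
    rw [← Scheme.Hom.comp_apply, hjπ]
    exact (h v).2)
  have hj'ι : j' ≫ (π ⁻¹ᵁ U).ι = j := IsOpenImmersion.lift_fac _ _ _
  have hj' : IsFinite j' := by
    have h2 : j' ≫ π ∣_ U = h := by
      rw [← cancel_mono U.ι, Category.assoc, morphismRestrict_ι, ← Category.assoc, hj'ι, hjπ]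
    haveI : IsFinite (j' ≫ π ∣_ U) := by rw [h2]; infer_instance
    haveI : IsSeparated (π ∣_ U) := inferInstance
    exact IsFinite.of_comp j' (π ∣_ U)
  have hclosed : ∀ x : T, x ∈ closure (Set.range j) → π x ∈ U → x ∈ Set.range j := by
    intro x hx hxU
    obtain ⟨x', rfl⟩ : x ∈ Set.range (π ⁻¹ᵁ U).ι := by rw [Scheme.Opens.range_ι]; exact hxU
    have hr : Set.range j = (π ⁻¹ᵁ U).ι '' Set.range j' := by
      rw [← Set.range_comp, ← hj'ι]
      exact congrArg Set.range (funext fun v => Scheme.Hom.comp_apply j' (π ⁻¹ᵁ U).ι v)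
    have hc : x' ∈ closure (Set.range j') := by
      rw [(π ⁻¹ᵁ U).ι.isOpenEmbedding.isInducing.closure_eq_preimage_closure_image, ← hr]
      exact hx
    rw [j'.isClosedMap.isClosed_range.closure_eq] at hc
    rw [hr]
    exact ⟨x', hc, rfl⟩
  let IZ := Scheme.IdealSheafData.vanishingIdeal ⟨closure (Set.range j), isClosed_closure⟩
  let IC := Scheme.IdealSheafData.vanishingIdeal ⟨(U : Set Y)ᶜ, U.isOpen.isClosed_compl⟩
  have hrZ : Set.range IZ.subschemeι = closure (Set.range j) := by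
    rw [Scheme.IdealSheafData.range_subschemeι, Scheme.IdealSheafData.coe_support_vanishingIdeal]; rfl
  have hrC : Set.range IC.subschemeι = (U : Set Y)ᶜ := by
    rw [Scheme.IdealSheafData.range_subschemeι, Scheme.IdealSheafData.coe_support_vanishingIdeal]; rfl
  refine ⟨IZ.subscheme ⨿ IC.subscheme, coprod.desc (IZ.subschemeι ≫ π) IC.subschemeι, inferInstance, ⟨fun y => ?_⟩,
    fun W t ht => ?_⟩
  · by_cases hy : y ∈ U
    · obtain ⟨v, hv⟩ := h.surjective ⟨y, hy⟩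
      obtain ⟨z, hz⟩ : j v ∈ Set.range IZ.subschemeι := hrZ.symm ▸ subset_closure ⟨v, rfl⟩
      refine ⟨(coprod.inl : IZ.subscheme ⟶ _) z, ?_⟩
      rw [← Scheme.Hom.comp_apply, coprod.inl_desc, Scheme.Hom.comp_apply, hz, ← Scheme.Hom.comp_apply, hjπ,
        Scheme.Hom.comp_apply, hv]
      rfl
    · obtain ⟨z, hz⟩ : y ∈ Set.range IC.subschemeι := hrC.symm ▸ hy
      refine ⟨(coprod.inr : IC.subscheme ⟶ _) z, ?_⟩
      rw [← Scheme.Hom.comp_apply, coprod.inr_desc, hz]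
  · have hinl : Set.range t ⊆ Set.range (coprod.inl : IZ.subscheme ⟶ IZ.subscheme ⨿ IC.subscheme) := by
      rintro _ ⟨p, rfl⟩
      obtain ⟨(z | z), hz⟩ := (coprodMk _ _).surjective (t p)
      · exact ⟨z, by rw [← coprodMk_inl, hz]⟩
      · exfalso
        have h1 := ht ⟨p, rfl⟩
        rw [Scheme.Hom.comp_apply, ← hz, coprodMk_inr, ← Scheme.Hom.comp_apply, coprod.inr_desc] at h1
        exact (hrC.subset ⟨z, rfl⟩) h1
    let t' := IsOpenImmersion.lift coprod.inl t hinl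
    have ht' : t' ≫ coprod.inl = t := IsOpenImmersion.lift_fac _ _ _
    have hπt : (t' ≫ IZ.subschemeι) ≫ π = t ≫ coprod.desc (IZ.subschemeι ≫ π) IC.subschemeι := by
      conv_rhs => rw [← ht', Category.assoc, coprod.inl_desc]
      rw [Category.assoc]
    have hin : Set.range (t' ≫ IZ.subschemeι) ⊆ Set.range j := by
      rintro _ ⟨p, rfl⟩
      refine hclosed _ (hrZ.subset ⟨t' p, rfl⟩) ?_
      rw [← Scheme.Hom.comp_apply, hπt]
      exact ht ⟨p, rfl⟩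
    refine ⟨IsOpenImmersion.lift j (t' ≫ IZ.subschemeι) hin, ?_⟩
    rw [← hjπ, ← Category.assoc, IsOpenImmersion.lift_fac, hπt]

variable {Y F F' : Scheme.{u}} (i : F ⟶ Y) (s : F' ⟶ F)

/-- Over `U`, points of `F'` over a dominant point of a reduced scheme mapping to the cover extend. -/
def Good (U : Y.Opens) {Y' : Scheme.{u}} (g : Y' ⟶ Y) : Prop :=
  ∀ (W : Scheme.{u}) [IsReduced W] (t : W ⟶ Y'), Set.range (t ≫ g) ⊆ (U : Set Y) →
    ∀ (Ω : Type u) [Field Ω] (ω : Spec (CommRingCat.of Ω) ⟶ W) [IsDominant ω] (r : W ⟶ F)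
      (ψ : Spec (CommRingCat.of Ω) ⟶ F'), r ≫ i = t ≫ g → ψ ≫ s = ω ≫ r →
      ∃ l : W ⟶ F', l ≫ s = r ∧ ω ≫ l = ψ

theorem Good.comp {U : Y.Opens} {Y' Y'' : Scheme.{u}} {g : Y' ⟶ Y} (h : Good i s U g) (p : Y'' ⟶ Y') :
    Good i s U (p ≫ g) := by
  intro W _ t ht Ω _ ω _ r ψ hr hψ
  exact h W (t ≫ p) (by rwa [Category.assoc]) Ω ω r ψ (by rwa [Category.assoc]) hψ

theorem exists_good_affine [IsNoetherian Y] [IsClosedImmersion i] [IsFinite s] (U : Y.affineOpens) :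
    ∃ (Ya : Scheme.{u}) (g : Ya ⟶ Y), IsFinite g ∧ Surjective g ∧ Good i s U.1 g := by
  haveI : IsAffine (U.1 : Scheme.{u}) := U.2
  haveI : IsAffine (i ⁻¹ᵁ U.1 : F.Opens) := U.2.preimage i
  haveI : IsAffine (s ⁻¹ᵁ i ⁻¹ᵁ U.1 : F'.Opens) := (U.2.preimage i).preimage s
  obtain ⟨R', _, φ, hφ, hφi, hroots⟩ := Alg.exists_roots (i ∣_ U.1).appTop.hom
    ((i ∣_ U.1).app_surjective ⊤ (isAffineOpen_top _)) (s ∣_ (i ⁻¹ᵁ U.1)).appTop.hom
    (Scheme.Hom.finite_appTop _)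
  let h : Spec (CommRingCat.of R') ⟶ (U.1 : Scheme.{u}) :=
    Spec.map (CommRingCat.ofHom φ) ≫ (U.1 : Scheme.{u}).isoSpec.inv
  haveI : IsFinite (Spec.map (CommRingCat.ofHom φ)) := (IsFinite.SpecMap_iff _).2 hφ
  haveI : Surjective (Spec.map (CommRingCat.ofHom φ)) :=
    ⟨RingHom.IsIntegral.comap_surjective hφ.to_isIntegral hφi⟩
  obtain ⟨Ya, g, hg, hgs, hlift⟩ := extend U.1 h
  refine ⟨Ya, g, hg, hgs, fun W _ t ht Ω _ ω _ r ψ hr hψ => ?_⟩
  obtain ⟨w, hw⟩ := hlift W t ht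
  have hrange : Set.range r ⊆ Set.range (i ⁻¹ᵁ U.1).ι := by
    rw [Scheme.Opens.range_ι]
    rintro _ ⟨x, rfl⟩
    show i (r x) ∈ U.1
    rw [← Scheme.Hom.comp_apply, hr]
    exact ht ⟨x, rfl⟩
  let r' := IsOpenImmersion.lift (i ⁻¹ᵁ U.1).ι r hrange
  have hr' : r' ≫ (i ⁻¹ᵁ U.1).ι = r := IsOpenImmersion.lift_fac _ _ _
  have hrangeψ : Set.range ψ ⊆ Set.range (s ⁻¹ᵁ i ⁻¹ᵁ U.1).ι := by
    rw [Scheme.Opens.range_ι]
    rintro _ ⟨x, rfl⟩
    show s (ψ x) ∈ i ⁻¹ᵁ U.1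
    rw [← Scheme.Hom.comp_apply, hψ]
    obtain ⟨z, hz⟩ := hrange ⟨ω x, rfl⟩
    rw [Scheme.Hom.comp_apply, ← hz]
    exact z.2
  let ψ' := IsOpenImmersion.lift (s ⁻¹ᵁ i ⁻¹ᵁ U.1).ι ψ hrangeψ
  have hψ' : ψ' ≫ (s ⁻¹ᵁ i ⁻¹ᵁ U.1).ι = ψ := IsOpenImmersion.lift_fac _ _ _
  obtain ⟨l, hl, hlω⟩ := Local.exists_lift (i ∣_ U.1) (s ∣_ (i ⁻¹ᵁ U.1)) R' φ hroots w Ω ω r'
    (by rw [← cancel_mono U.1.ι, Category.assoc, morphismRestrict_ι, ← Category.assoc, hr', hr, ← hw]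
        simp [h])
    ψ' (by rw [← cancel_mono (i ⁻¹ᵁ U.1).ι, Category.assoc, morphismRestrict_ι, ← Category.assoc, hψ', hψ,
        Category.assoc, hr'])
  exact ⟨l ≫ (s ⁻¹ᵁ i ⁻¹ᵁ U.1).ι, by rw [Category.assoc, ← morphismRestrict_ι, ← Category.assoc, hl, hr'],
    by rw [← Category.assoc, hlω, hψ']⟩

theorem exists_good [IsNoetherian Y] [IsClosedImmersion i] [IsFinite s] (𝒰 : Finset Y.affineOpens) :
    ∃ (Y' : Scheme.{u}) (g : Y' ⟶ Y), IsFinite g ∧ Surjective g ∧ ∀ U ∈ 𝒰, Good i s U.1 g := by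
  classical
  induction 𝒰 using Finset.induction with
  | empty => exact ⟨Y, 𝟙 Y, inferInstance, inferInstance, fun U hU => absurd hU (Finset.notMem_empty U)⟩
  | insert a 𝒰 _ ih =>
    obtain ⟨Y', g, hg, hgs, hgood⟩ := ih
    obtain ⟨Ya, ga, hga, hgas, hgagood⟩ := exists_good_affine i s a
    refine ⟨pullback g ga, pullback.fst g ga ≫ g, inferInstance, inferInstance, fun U hU => ?_⟩
    rcases Finset.mem_insert.1 hU with rfl | hU
    · rw [pullback.condition]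
      exact Good.comp i s hgagood _
    · exact Good.comp i s (hgood U hU) _

theorem exists_cover [IsNoetherian Y] [IsClosedImmersion i] [IsFinite s] [Surjective s] :
    ∃ (Y' : Scheme.{u}) (g : Y' ⟶ Y), IsFinite g ∧ Surjective g ∧
      ∀ (G : Scheme.{u}) (_ : IsIntegral G) (q : G ⟶ F) (t : G ⟶ Y'), q ≫ i = t ≫ g →
        ∃ φ : G ⟶ F', φ ≫ s = q := by
  obtain ⟨𝒰, h𝒰⟩ := isCompact_univ.elim_finite_subcover (fun U : Y.affineOpens => (U.1 : Set Y))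
    (fun U => U.1.isOpen) (fun y _ => by
      have h : y ∈ (⊤ : Y.Opens) := trivial
      rw [← iSup_affineOpens_eq_top Y, TopologicalSpace.Opens.mem_iSup] at h
      exact Set.mem_iUnion.2 h)
  obtain ⟨Y', g, hg, hgs, hgood⟩ := exists_good i s 𝒰
  refine ⟨Y', g, hg, hgs, fun G _ q t hqt => ?_⟩
  let Ω := AlgebraicClosure (G.residueField (genericPoint G))
  let ω : Spec (CommRingCat.of Ω) ⟶ G :=
    Spec.map (CommRingCat.ofHom (algebraMap (G.residueField (genericPoint G)) Ω)) ≫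
      G.fromSpecResidueField (genericPoint G)
  have hωpt : ∀ a, ω a = genericPoint G := fun a => by
    rw [show ω a = G.fromSpecResidueField (genericPoint G)
        (Spec.map (CommRingCat.ofHom (algebraMap (G.residueField (genericPoint G)) Ω)) a) from rfl,
      Scheme.fromSpecResidueField_apply]
  haveI hω : IsDominant ω := ⟨by
    have hd : closure ({genericPoint G} : Set G) = Set.univ := genericPoint_spec G
    rw [DenseRange, dense_iff_closure_eq, ← Set.univ_subset_iff]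
    refine hd.ge.trans (closure_mono ?_)
    rintro _ rfl
    exact ⟨IsLocalRing.closedPoint Ω, hωpt _⟩⟩
  obtain ⟨ψ, hψ⟩ : ∃ ψ : Spec (CommRingCat.of Ω) ⟶ F', ψ ≫ s = ω ≫ q := by
    haveI : IsFinite (pullback.fst (ω ≫ q) s) := inferInstance
    haveI : Surjective (pullback.fst (ω ≫ q) s) := inferInstance
    haveI : Nonempty (pullback (ω ≫ q) s : Scheme.{u}) :=
      ⟨((pullback.fst (ω ≫ q) s).surjective (IsLocalRing.closedPoint Ω)).choose⟩
    haveI : CompactSpace (pullback (ω ≫ q) s : Scheme.{u}) :=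
      QuasiCompact.compactSpace_of_compactSpace (pullback.fst (ω ≫ q) s)
    obtain ⟨x, -, hx⟩ := isClosed_univ.exists_closed_singleton (X := (pullback (ω ≫ q) s : Scheme.{u}))
      ⟨Classical.arbitrary _, trivial⟩
    refine ⟨pointOfClosedPoint (pullback.fst (ω ≫ q) s) x hx ≫ pullback.snd (ω ≫ q) s, ?_⟩
    rw [Category.assoc, ← pullback.condition, pointOfClosedPoint_comp_assoc]
  let J := {U : Y.affineOpens // U ∈ 𝒰 ∧ genericPoint G ∈ (t ≫ g) ⁻¹ᵁ U.1}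
  have hcov : TopologicalSpace.IsOpenCover fun U : J => (t ≫ g) ⁻¹ᵁ U.1.1 := by
    refine TopologicalSpace.IsOpenCover.mk (eq_top_iff.2 fun x _ => ?_)
    obtain ⟨U, hU, hxU⟩ := Set.mem_iUnion₂.1 (h𝒰 (Set.mem_univ ((t ≫ g) x)))
    exact TopologicalSpace.Opens.mem_iSup.2 ⟨⟨U, hU, (genericPoint_specializes x).mem_open
      ((t ≫ g) ⁻¹ᵁ U.1).isOpen hxU⟩, hxU⟩
  have hωU : ∀ U : J, Set.range ω ⊆ Set.range ((t ≫ g) ⁻¹ᵁ U.1.1).ι := by
    intro U
    rw [Scheme.Opens.range_ι]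
    rintro _ ⟨a, rfl⟩
    rw [hωpt]
    exact U.2.2
  let ω' := fun U : J => IsOpenImmersion.lift ((t ≫ g) ⁻¹ᵁ U.1.1).ι ω (hωU U)
  have hω' : ∀ U, ω' U ≫ ((t ≫ g) ⁻¹ᵁ U.1.1).ι = ω := fun U => IsOpenImmersion.lift_fac _ _ _
  have hl : ∀ U : J, ∃ l : (((t ≫ g) ⁻¹ᵁ U.1.1 : G.Opens) : Scheme.{u}) ⟶ F',
      l ≫ s = ((t ≫ g) ⁻¹ᵁ U.1.1).ι ≫ q ∧ ω' U ≫ l = ψ := by
    intro U
    haveI := isDominant_lift _ ω (ω' U) (hω' U)
    refine hgood U.1 U.2.1 _ (((t ≫ g) ⁻¹ᵁ U.1.1).ι ≫ t) ?_ Ω (ω' U) _ ψ ?_ ?_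
    · rintro _ ⟨a, rfl⟩
      exact a.2
    · rw [Category.assoc, Category.assoc, hqt]
    · rw [hψ, ← Category.assoc, hω']
  choose l hls hlω using hl
  let 𝒲 := G.openCoverOfIsOpenCover _ hcov
  refine ⟨𝒲.glueMorphisms l ?_, ?_⟩
  · intro a b
    haveI : IsReduced (pullback (𝒲.f a) (𝒲.f b)) :=
      isReduced_of_isOpenImmersion (pullback.fst (𝒲.f a) (𝒲.f b) ≫ 𝒲.f a)
    let ω'' : Spec (CommRingCat.of Ω) ⟶ pullback (𝒲.f a) (𝒲.f b) :=
      pullback.lift (ω' a) (ω' b) ((hω' a).trans (hω' b).symm)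
    haveI : IsDominant ω'' := isDominant_lift (pullback.fst (𝒲.f a) (𝒲.f b) ≫ 𝒲.f a) ω ω''
      (by rw [pullback.lift_fst_assoc]; exact hω' a)
    refine ext_of_isDominant_of_isSeparated s ?_ ω'' ?_
    · erw [Category.assoc, Category.assoc, hls a, hls b]
      exact pullback.condition_assoc q
    · erw [pullback.lift_fst_assoc, pullback.lift_snd_assoc, hlω a, hlω b]
  · refine 𝒲.hom_ext _ _ fun U => ?_
    rw [Scheme.Cover.ι_glueMorphisms_assoc]
    exact hls U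

end Groth.Agent.H26.FinCover.Main
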